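import Mathlib
import Cfsg.Statements.S1405
import Cfsg.Agent.Lib.Helper35.BG.FrobQ
import Cfsg.Agent.Lib.Helper67.BG.HallUtil
import Cfsg.Agent.Lib.Helper85.BG.Conj
import Cfsg.Agent.Lib.Helper46.BG.S1414Core

/-!
Tools for statement S1435 (Bender–Glauberman Lemma 16.1), helper96.
-/

set_option autoImplicit false

namespace Cfsg.Agent.Lib.Helper96.BG

open Cfsg Subgroup

variable {G : Type*} [Group G] [Finite G]

/-- **Frobenius lemma.** A Frobenius group `D ⋊ K` acts coprimely on a solvable group `N`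
on which no non-identity element of `K` has a non-identity fixed point: then `D` centralizes
`N`. -/
theorem frob_centralizes (N D K : Subgroup G)
    (hKD : K ≤ normalizer (D : Set G)) (hK1 : K ≠ ⊥)
    (hfpf : ∀ k ∈ K, k ≠ 1 → ∀ d ∈ D, k * d = d * k → d = 1)
    (hsolv : Group.IsSolvable N)
    (hcop : (Nat.card N).Coprime (Nat.card ↥(D ⊔ K)))
    (hfix : ∀ k ∈ K, k ≠ 1 → N ⊓ centralizer ({k} : Set G) = ⊥)
    (hDN : D ≤ normalizer (N : Set G)) (hKN : K ≤ normalizer (N : Set G)) :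
    D ≤ centralizer (N : Set G) := by
  have h := Cfsg.Agent.Lib.Helper35.BG.frob_core N D K ⊥ hKD hK1 hfpf hsolv hcop hfix K le_rfl
    hK1 N le_rfl hDN hKN
  have e2 : N ⊓ (⊥ : Subgroup G) = ⊥ := inf_bot_eq N
  have e1 : N ⊓ (⊥ : Subgroup G) ⊓ centralizer (D : Set G) = ⊥ := by rw [e2, bot_inf_eq]
  rw [e1, e2] at h
  simp only [Subgroup.card_bot, one_pow, one_mul] at h
  have h3 : N ⊓ centralizer (D : Set G) = N := Subgroup.eq_of_le_of_card_ge inf_le_left h.le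
  have h4 : N ≤ centralizer (D : Set G) := by rw [← h3]; exact inf_le_right
  intro d hd
  rw [mem_centralizer_iff]
  intro n hn
  have h5 := h4 hn
  rw [mem_centralizer_iff] at h5
  exact (h5 d hd).symm

/-- A prime `q ∉ σ(L)` with an element of order `q` of `L` centralizing a non-identity element
of `L_σ` lies in `κ(L)` or in `τ₂(L)`. -/
theorem mem_kappa_or_tau2 (hG : IsMinSimpleOddOrder G)
    (h1405 : type_of% (@Cfsg.CfsgFrozen.S1405 G _ _ hG))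
    {L : Subgroup G} (hL : IsCoatom L) {q : ℕ} (hq : q.Prime) (hqσ : q ∉ sigma L)
    {z : G} (hzL : z ∈ L) (hz : orderOf z = q) {y : G} (hy : y ∈ sigmaCore L) (hy1 : y ≠ 1)
    (hzy : z * y = y * z) : q ∈ kappa L ∨ q ∈ tau2 L := by
  have : Fact q.Prime := ⟨hq⟩
  by_cases h1 : PRankLE q 1 L
  · exact Or.inl (Cfsg.Agent.Lib.Helper67.BG.mem_kappa_of_rank_one hG.1 L q hqσ h1 z hzL hz y
      hy hy1 hzy)
  · by_cases h2 : PRankLE q 2 L
    · exact Or.inr ⟨hq, hqσ, h2, h1⟩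
    · exact absurd (Cfsg.Agent.Lib.Helper46.BG.mem_sigma_of_mem_alpha hG h1405 hL ⟨hq, h2⟩) hqσ

omit [Finite G] in
/-- In a commutative group every `r`-element lies in every Sylow `r`-subgroup. -/
theorem mem_sylow_of_comm {U : Type*} [Group U] (hU : ∀ a b : U, a * b = b * a) {r : ℕ}
    (R : Sylow r U) (y : U) (hy : IsPGroup r (zpowers y)) : y ∈ (R : Subgroup U) := by
  have hn : (R : Subgroup U) ≤ Subgroup.normalizer ((zpowers y : Subgroup U) : Set U) := by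
    intro x _
    rw [mem_normalizer_iff]
    intro h
    rw [hU x h, mul_inv_cancel_right]
  have hp : IsPGroup r ((R : Subgroup U) ⊔ zpowers y : Subgroup U) :=
    IsPGroup.to_sup_of_normal_right' R.isPGroup' hy hn
  have h1 := R.is_maximal' hp le_sup_left
  have h2 : y ∈ (R : Subgroup U) ⊔ zpowers y := le_sup_right (a := (R : Subgroup U)) (mem_zpowers y)
  rw [h1] at h2
  exact h2

omit [Finite G] in
/-- A subgroup normalizing an abelian subgroup `U` normalizes its Sylow subgroups. -/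
theorem le_normalizer_sylow_of_comm {U K : Subgroup G}
    (hU : ∀ a ∈ U, ∀ b ∈ U, a * b = b * a) (hKU : K ≤ normalizer (U : Set G)) {r : ℕ}
    [Fact r.Prime] (R : Sylow r U) :
    K ≤ normalizer (((R : Subgroup U).map U.subtype : Subgroup G) : Set G) := by
  apply Cfsg.Agent.Lib.Helper35.BG.le_normalizer_of_forall_conj_mem
  rintro k hk _ ⟨u, hu, rfl⟩
  have hkU : k * (u : G) * k⁻¹ ∈ U := (mem_normalizer_iff.mp (hKU hk) _).mp u.2
  have hUc : ∀ a b : U, a * b = b * a := fun a b => Subtype.ext (hU a a.2 b b.2)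
  have hy : IsPGroup r (zpowers (⟨k * (u : G) * k⁻¹, hkU⟩ : U)) := by
    obtain ⟨n, hn⟩ := (IsPGroup.iff_orderOf.mp R.isPGroup') ⟨u, hu⟩
    apply IsPGroup.of_card (n := n)
    rw [Nat.card_zpowers, ← Subgroup.orderOf_coe]
    show orderOf (k * (u : G) * k⁻¹) = r ^ n
    have h1 : orderOf (k * (u : G) * k⁻¹) = orderOf (u : G) :=
      Cfsg.Agent.Lib.Helper85.BG.orderOf_conj k (u : G)
    rw [h1, Subgroup.orderOf_coe]
    have h2 : orderOf (⟨u, hu⟩ : (R : Subgroup U)) = orderOf u := Subgroup.orderOf_mk u hu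
    rw [← h2]; exact hn
  exact ⟨⟨k * (u : G) * k⁻¹, hkU⟩, mem_sylow_of_comm hUc R _ hy, rfl⟩

omit [Finite G] in
/-- `p`-elements of an abelian subgroup `A` normalized by an element `k` of order `p` commute
with `k`, provided `p`-subgroups of `A ⊔ ⟨k⟩` containing `k` are abelian. -/
theorem comm_pElement_of (A : Subgroup G) (hA : ∀ a ∈ A, ∀ b ∈ A, a * b = b * a) (k : G)
    {p : ℕ} [Fact p.Prime] (hk : orderOf k = p) (hkA : ∀ a ∈ A, k * a * k⁻¹ ∈ A)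
    (hab : ∀ P : Subgroup G, IsPGroup p P → k ∈ P → P ≤ A ⊔ zpowers k →
      ∀ a ∈ P, ∀ b ∈ P, a * b = b * a)
    (a : G) (ha : a ∈ A) (n : ℕ) (han : a ^ (p ^ n) = 1) : k * a = a * k := by
  let Ap : Subgroup G :=
    { carrier := {x | x ∈ A ∧ x ^ (p ^ n) = 1}
      mul_mem' := by
        rintro x y ⟨hx, hx1⟩ ⟨hy, hy1⟩
        refine ⟨A.mul_mem hx hy, ?_⟩
        have hc : Commute x y := hA x hx y hy
        rw [hc.mul_pow, hx1, hy1, one_mul]
      one_mem' := ⟨A.one_mem, one_pow _⟩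
      inv_mem' := by
        rintro x ⟨hx, hx1⟩
        exact ⟨A.inv_mem hx, by rw [inv_pow, hx1, inv_one]⟩ }
  have hApA : Ap ≤ A := fun x hx => hx.1
  have hAp : IsPGroup p Ap := by
    rintro ⟨x, hx⟩
    exact ⟨n, Subtype.ext hx.2⟩
  have hkz : IsPGroup p (zpowers k) := by
    apply IsPGroup.of_card (n := 1)
    rw [Nat.card_zpowers, hk, pow_one]
  have hkn : zpowers k ≤ Subgroup.normalizer ((Ap : Subgroup G) : Set G) := by
    apply Cfsg.Agent.Lib.Helper35.BG.le_normalizer_of_forall_conj_mem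
    intro x hx y hy
    obtain ⟨i, rfl⟩ := mem_zpowers_iff.mp hx
    have key : ∀ j : ℕ, ∀ y ∈ Ap, k ^ j * y * (k ^ j)⁻¹ ∈ Ap := by
      intro j
      induction j with
      | zero => intro y hy; simpa using hy
      | succ j ih =>
        intro y hy
        have h1 := ih y hy
        have h2 : k ^ (j + 1) * y * (k ^ (j + 1))⁻¹ = k * (k ^ j * y * (k ^ j)⁻¹) * k⁻¹ := by
          rw [pow_succ']; group
        rw [h2]
        refine ⟨hkA _ h1.1, ?_⟩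
        rw [conj_pow, h1.2, mul_one, mul_inv_cancel]
    have hi : k ^ i = k ^ (i % (p : ℤ)).toNat := by
      have hp0 : (p : ℤ) ≠ 0 := by exact_mod_cast (Fact.out : p.Prime).ne_zero
      have h1 : 0 ≤ i % (p : ℤ) := Int.emod_nonneg _ hp0
      rw [← zpow_natCast, Int.toNat_of_nonneg h1, ← hk, zpow_mod_orderOf]
    rw [hi]
    exact key _ y hy
  have hP : IsPGroup p (zpowers k ⊔ Ap : Subgroup G) :=
    IsPGroup.to_sup_of_normal_right' hkz hAp hkn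
  have hPle : zpowers k ⊔ Ap ≤ A ⊔ zpowers k :=
    sup_le le_sup_right (hApA.trans le_sup_left)
  exact hab _ hP (le_sup_left (a := zpowers k) (mem_zpowers k)) hPle k
    (le_sup_left (a := zpowers k) (mem_zpowers k)) a (le_sup_right (a := zpowers k) ⟨ha, han⟩)

omit [Finite G] in
theorem phi_mul_aux (A : Subgroup G) (hA : ∀ a ∈ A, ∀ b ∈ A, a * b = b * a) (k : G)
    (hkA : ∀ a ∈ A, k * a * k⁻¹ ∈ A) (a b : G) (ha : a ∈ A) (hb : b ∈ A) :
    (a * b)⁻¹ * (k * (a * b) * k⁻¹) = a⁻¹ * (k * a * k⁻¹) * (b⁻¹ * (k * b * k⁻¹)) := by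
  have h1 : b⁻¹ * (a⁻¹ * (k * a * k⁻¹)) = (a⁻¹ * (k * a * k⁻¹)) * b⁻¹ :=
    hA _ (A.inv_mem hb) _ (A.mul_mem (A.inv_mem ha) (hkA a ha))
  calc (a * b)⁻¹ * (k * (a * b) * k⁻¹)
      = b⁻¹ * (a⁻¹ * (k * a * k⁻¹)) * (k * b * k⁻¹) := by group
    _ = (a⁻¹ * (k * a * k⁻¹)) * b⁻¹ * (k * b * k⁻¹) := by rw [h1]
    _ = a⁻¹ * (k * a * k⁻¹) * (b⁻¹ * (k * b * k⁻¹)) := by group

omit [Finite G] in
theorem phi_pow_aux (A : Subgroup G) (hA : ∀ a ∈ A, ∀ b ∈ A, a * b = b * a) (k : G)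
    (hkA : ∀ a ∈ A, k * a * k⁻¹ ∈ A) (a : G) (ha : a ∈ A) (m : ℕ) :
    (a ^ m)⁻¹ * (k * a ^ m * k⁻¹) = (a⁻¹ * (k * a * k⁻¹)) ^ m := by
  induction m with
  | zero => simp
  | succ m ih =>
    rw [pow_succ, phi_mul_aux A hA k hkA (a ^ m) a (A.pow_mem ha m) ha, ih, pow_succ]

omit [Finite G] in
theorem phi_fix_pow_aux (k a : G) (hc : k * (a⁻¹ * (k * a * k⁻¹)) = (a⁻¹ * (k * a * k⁻¹)) * k)
    (n : ℕ) : (a⁻¹ * (k * a * k⁻¹)) ^ n = a⁻¹ * (k ^ n * a * (k ^ n)⁻¹) := by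
  induction n with
  | zero => simp
  | succ n ih =>
    have hcn : k ^ n * (a⁻¹ * (k * a * k⁻¹)) = (a⁻¹ * (k * a * k⁻¹)) * k ^ n :=
      ((Commute.pow_left (show Commute k (a⁻¹ * (k * a * k⁻¹)) from hc) n)).eq
    calc (a⁻¹ * (k * a * k⁻¹)) ^ (n + 1)
        = (a⁻¹ * (k * a * k⁻¹)) ^ n * (a⁻¹ * (k * a * k⁻¹)) := pow_succ _ _
      _ = a⁻¹ * (k ^ n * a * (k ^ n)⁻¹) * (a⁻¹ * (k * a * k⁻¹)) := by rw [ih]
      _ = a⁻¹ * (k ^ n * a) * ((k ^ n)⁻¹ * ((a⁻¹ * (k * a * k⁻¹)) * k ^ n)) * (k ^ n)⁻¹ := by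
          group
      _ = a⁻¹ * (k ^ n * a) * ((k ^ n)⁻¹ * (k ^ n * (a⁻¹ * (k * a * k⁻¹)))) * (k ^ n)⁻¹ := by
          rw [hcn]
      _ = a⁻¹ * (k ^ (n + 1) * a * (k ^ (n + 1))⁻¹) := by rw [pow_succ]; group

/-- If an element `k` of prime order `p` normalizes the abelian subgroup `A` without centralizing
it, while the `p`-elements of `A` commute with `k`, then there are a prime `q ≠ p` and a
nontrivial `k`-invariant subgroup `W ≤ A` of exponent `q` on which `k` has no non-identity fixed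
point. -/
theorem exists_free_section (A : Subgroup G) (hA : ∀ a ∈ A, ∀ b ∈ A, a * b = b * a) (k : G)
    {p : ℕ} (hp : p.Prime) (hk : orderOf k = p) (hkA : ∀ a ∈ A, k * a * k⁻¹ ∈ A)
    (hpk : ∀ a ∈ A, ∀ n : ℕ, a ^ (p ^ n) = 1 → k * a = a * k)
    (hnc : ∃ a ∈ A, k * a ≠ a * k) :
    ∃ q : ℕ, q.Prime ∧ q ≠ p ∧ ∃ W : Subgroup G, W ≤ A ∧ W ≠ ⊥ ∧ (∀ w ∈ W, w ^ q = 1) ∧
      (∀ w ∈ W, k * w * k⁻¹ ∈ W) ∧ (∀ w ∈ W, k * w = w * k → w = 1) := by
  obtain ⟨a, ha, hka⟩ := hnc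
  obtain ⟨a1, a2, ha12, ha1z, ha2z, hpi1, hpi2⟩ :=
    Cfsg.Agent.Lib.Helper85.BG.exists_pi_decomp ({p} : Set ℕ) a
  have hzA : zpowers a ≤ A := (zpowers_le).mpr ha
  have ha1 : a1 ∈ A := hzA ha1z
  have ha2 : a2 ∈ A := hzA ha2z
  -- `a1` is a `p`-element
  have ha1p : ∃ n : ℕ, a1 ^ (p ^ n) = 1 := by
    have h0 : orderOf a1 ≠ 0 := (orderOf_pos a1).ne'
    have h1 := Nat.eq_prime_pow_of_unique_prime_dvd h0
      (fun {d} hd hdvd => (hpi1 d hd hdvd : d = p))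
    exact ⟨_, by rw [← h1]; exact pow_orderOf_eq_one a1⟩
  obtain ⟨n1, hn1⟩ := ha1p
  have hka1 : k * a1 = a1 * k := hpk a1 ha1 n1 hn1
  have hphi1 : a1⁻¹ * (k * a1 * k⁻¹) = 1 := by rw [hka1]; group
  have hphi : a⁻¹ * (k * a * k⁻¹) = a2⁻¹ * (k * a2 * k⁻¹) := by
    rw [ha12, phi_mul_aux A hA k hkA a1 a2 ha1 ha2, hphi1, one_mul]
  have hx1 : a2⁻¹ * (k * a2 * k⁻¹) ≠ 1 := by
    rw [← hphi]
    intro h
    apply hka
    have : k * a * k⁻¹ = a := by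
      have h2 : a * (a⁻¹ * (k * a * k⁻¹)) = a * 1 := by rw [h]
      simpa using h2
    calc k * a = k * a * k⁻¹ * k := by group
      _ = a * k := by rw [this]
  set x : G := a2⁻¹ * (k * a2 * k⁻¹) with hx
  have hxA : x ∈ A := A.mul_mem (A.inv_mem ha2) (hkA a2 ha2)
  have hxm : x ^ orderOf a2 = 1 := by
    rw [hx, ← phi_pow_aux A hA k hkA a2 ha2, pow_orderOf_eq_one]; group
  have hxo : orderOf x ∣ orderOf a2 := orderOf_dvd_of_pow_eq_one hxm
  have hxo1 : orderOf x ≠ 1 := fun h => hx1 (orderOf_eq_one_iff.mp h)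
  obtain ⟨q, hq, hqx⟩ := Nat.exists_prime_and_dvd hxo1
  have hqp : q ≠ p := by
    rintro rfl
    exact hpi2 q hq (hqx.trans hxo) rfl
  refine ⟨q, hq, hqp, ?_⟩
  let W : Subgroup G :=
    { carrier := {w | w ∈ A ∧ w ^ q = 1 ∧ ∃ b ∈ A, w = b⁻¹ * (k * b * k⁻¹)}
      mul_mem' := by
        rintro w1 w2 ⟨h1, h1q, b1, hb1, rfl⟩ ⟨h2, h2q, b2, hb2, rfl⟩
        refine ⟨A.mul_mem h1 h2, ?_, b1 * b2, A.mul_mem hb1 hb2, ?_⟩
        · have hc : Commute (b1⁻¹ * (k * b1 * k⁻¹)) (b2⁻¹ * (k * b2 * k⁻¹)) := hA _ h1 _ h2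
          rw [hc.mul_pow, h1q, h2q, one_mul]
        · exact (phi_mul_aux A hA k hkA b1 b2 hb1 hb2).symm
      one_mem' := ⟨A.one_mem, one_pow _, 1, A.one_mem, by group⟩
      inv_mem' := by
        rintro w ⟨h1, h1q, b, hb, rfl⟩
        refine ⟨A.inv_mem h1, by rw [inv_pow, h1q, inv_one], b⁻¹, A.inv_mem hb, ?_⟩
        have h3 := phi_mul_aux A hA k hkA b b⁻¹ hb (A.inv_mem hb)
        have h4 : (b * b⁻¹)⁻¹ * (k * (b * b⁻¹) * k⁻¹) = 1 := by group
        rw [h4] at h3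
        exact (eq_inv_of_mul_eq_one_right h3.symm).symm ▸ rfl }
  have hWA : W ≤ A := fun w hw => hw.1
  refine ⟨W, hWA, ?_, fun w hw => hw.2.1, ?_, ?_⟩
  · -- nontrivial
    have hw0 : x ^ (orderOf x / q) ∈ W := by
      refine ⟨A.pow_mem hxA _, ?_, a2 ^ (orderOf x / q), A.pow_mem ha2 _, ?_⟩
      · rw [← pow_mul, Nat.div_mul_cancel hqx, pow_orderOf_eq_one]
      · rw [hx, phi_pow_aux A hA k hkA a2 ha2]
    have hw0o : orderOf (x ^ (orderOf x / q)) = q :=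
      orderOf_pow_orderOf_div (orderOf_pos x).ne' hqx
    intro hbot
    rw [hbot, mem_bot] at hw0
    rw [hw0, orderOf_one] at hw0o
    exact hq.one_lt.ne hw0o
  · rintro w ⟨h1, h1q, b, hb, rfl⟩
    refine ⟨hkA _ h1, by rw [conj_pow, h1q, mul_one, mul_inv_cancel], k * b * k⁻¹, hkA b hb, ?_⟩
    group
  · rintro w ⟨h1, h1q, b, hb, rfl⟩ hc
    have h2 := phi_fix_pow_aux k b hc p
    have hkp : k ^ p = 1 := by rw [← hk]; exact pow_orderOf_eq_one k
    rw [hkp] at h2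
    have h3 : (b⁻¹ * (k * b * k⁻¹)) ^ p = 1 := by rw [h2]; group
    have h4 : orderOf (b⁻¹ * (k * b * k⁻¹)) ∣ p := orderOf_dvd_of_pow_eq_one h3
    have h5 : orderOf (b⁻¹ * (k * b * k⁻¹)) ∣ q := orderOf_dvd_of_pow_eq_one h1q
    have h6 : orderOf (b⁻¹ * (k * b * k⁻¹)) ∣ Nat.gcd p q := Nat.dvd_gcd h4 h5
    have h7 : Nat.gcd p q = 1 := (Nat.coprime_primes hp hq).mpr (Ne.symm hqp)
    rw [h7, Nat.dvd_one] at h6
    exact orderOf_eq_one_iff.mp h6

/-- A non-identity element of a subgroup of prime order generates it. -/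
theorem zpowers_eq_of_prime_card {K : Subgroup G} (hp : (Nat.card K).Prime) {k : G} (hk : k ∈ K)
    (hk1 : k ≠ 1) : zpowers k = K := by
  have hle : zpowers k ≤ K := zpowers_le.mpr hk
  apply Subgroup.eq_of_le_of_card_ge hle
  have h1 : Nat.card (zpowers k) ∣ Nat.card K := Subgroup.card_dvd_of_le hle
  rcases (Nat.dvd_prime hp).mp h1 with h | h
  · exfalso
    rw [Nat.card_zpowers] at h
    exact hk1 (orderOf_eq_one_iff.mp h)
  · exact h.ge

theorem zpowers_le_normalizer_of_conj_mem {k : G} {W : Subgroup G}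
    (h : ∀ w ∈ W, k * w * k⁻¹ ∈ W) : zpowers k ≤ normalizer (W : Set G) := by
  apply Cfsg.Agent.Lib.Helper35.BG.le_normalizer_of_forall_conj_mem
  intro x hx y hy
  obtain ⟨i, rfl⟩ := mem_zpowers_iff.mp hx
  have key : ∀ j : ℕ, ∀ y ∈ W, k ^ j * y * (k ^ j)⁻¹ ∈ W := by
    intro j
    induction j with
    | zero => intro y hy; simpa using hy
    | succ j ih =>
      intro y hy
      have h2 : k ^ (j + 1) * y * (k ^ (j + 1))⁻¹ = k * (k ^ j * y * (k ^ j)⁻¹) * k⁻¹ := by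
        rw [pow_succ']; group
      rw [h2]
      exact h _ (ih y hy)
  have hi : k ^ i = k ^ (i % (orderOf k : ℤ)).toNat := by
    have hp0 : (orderOf k : ℤ) ≠ 0 := by exact_mod_cast (orderOf_pos k).ne'
    have h1 : 0 ≤ i % (orderOf k : ℤ) := Int.emod_nonneg _ hp0
    rw [← zpow_natCast, Int.toNat_of_nonneg h1, zpow_mod_orderOf]
  rw [hi]
  exact key _ y hy

/-- If `S` has a normal `q`-complement, `k ∈ S` has order prime to `q`, and the commutator of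
`k` with `w ∈ S` is a `q`-element, then `k` and `w` commute. -/
theorem comm_of_normal_pComplement {S : Subgroup G} {q : ℕ} [Fact q.Prime]
    (hS : HasNormalPComplement q ↥S) {k w : G} (hk : k ∈ S) (hw : w ∈ S)
    (hko : (orderOf k).Coprime q) (hc : (k * w * k⁻¹ * w⁻¹) ^ q = 1) : k * w = w * k := by
  obtain ⟨P, N, hN, hNP⟩ := hS
  have hidx : N.index = Nat.card (P : Subgroup S) := hNP.symm.index_eq_card
  obtain ⟨n, hn⟩ := IsPGroup.iff_card.mp P.isPGroup'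
  have hkN : (⟨k, hk⟩ : S) ∈ N := by
    have h1 : (⟨k, hk⟩ : S) ^ N.index ∈ N := Subgroup.pow_index_mem N _
    have hcop : (N.index).Coprime (orderOf (⟨k, hk⟩ : S)) := by
      rw [hidx, hn, Subgroup.orderOf_mk]
      exact Nat.Coprime.pow_left n hko.symm
    obtain ⟨m, hm⟩ := exists_pow_eq_self_of_coprime hcop
    rw [← hm]
    exact N.pow_mem h1 m
  have hcS : k * w * k⁻¹ * w⁻¹ ∈ S :=
    S.mul_mem (S.mul_mem (S.mul_mem hk hw) (S.inv_mem hk)) (S.inv_mem hw)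
  have hcN : (⟨k * w * k⁻¹ * w⁻¹, hcS⟩ : S) ∈ N := by
    have h2 : (⟨w, hw⟩ : S) * (⟨k, hk⟩ : S)⁻¹ * (⟨w, hw⟩ : S)⁻¹ ∈ N :=
      hN.conj_mem _ (N.inv_mem hkN) _
    have h3 := N.mul_mem hkN h2
    have h4 : (⟨k * w * k⁻¹ * w⁻¹, hcS⟩ : S) =
        (⟨k, hk⟩ : S) * ((⟨w, hw⟩ : S) * (⟨k, hk⟩ : S)⁻¹ * (⟨w, hw⟩ : S)⁻¹) := by
      apply Subtype.ext
      simp [mul_assoc]
    rw [h4]
    exact h3
  have hNq : (Nat.card N).Coprime q := by
    have h4 : Nat.card N = (P : Subgroup S).index := hNP.index_eq_card.symm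
    rw [h4]
    exact ((Nat.Prime.coprime_iff_not_dvd Fact.out).mpr P.not_dvd_index).symm
  have h5 : (⟨k * w * k⁻¹ * w⁻¹, hcS⟩ : S) ^ Nat.card N = 1 := by
    have h : (⟨⟨k * w * k⁻¹ * w⁻¹, hcS⟩, hcN⟩ : N) ^ Nat.card N = 1 := pow_card_eq_one'
    exact congrArg Subtype.val h
  have h6 : (⟨k * w * k⁻¹ * w⁻¹, hcS⟩ : S) ^ q = 1 := Subtype.ext hc
  have h7 : orderOf (⟨k * w * k⁻¹ * w⁻¹, hcS⟩ : S) ∣ Nat.gcd (Nat.card N) q :=
    Nat.dvd_gcd (orderOf_dvd_of_pow_eq_one h5) (orderOf_dvd_of_pow_eq_one h6)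
  rw [Nat.Coprime.gcd_eq_one hNq, Nat.dvd_one, orderOf_eq_one_iff] at h7
  have h8 : k * w * k⁻¹ * w⁻¹ = 1 := congrArg Subtype.val h7
  calc k * w = (k * w * k⁻¹ * w⁻¹) * (w * k) := by group
    _ = w * k := by rw [h8, one_mul]

omit [Finite G] in
/-- An abelian subgroup of `E` normalized by `E` lies in `F(E)`. -/
theorem le_fittingOf_of_comm {E T : Subgroup G} (hTE : T ≤ E)
    (hET : E ≤ normalizer (T : Set G)) (hT : ∀ a ∈ T, ∀ b ∈ T, a * b = b * a) :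
    T ≤ fittingOf E := by
  have hn : (T.subgroupOf E).Normal := Subgroup.normal_subgroupOf_of_le_normalizer hET
  have hnil : Group.IsNilpotent (T.subgroupOf E) := by
    have : IsMulCommutative (T.subgroupOf E) :=
      ⟨⟨fun a b => Subtype.ext (Subtype.ext (hT _ (Subgroup.mem_subgroupOf.mp a.2) _
        (Subgroup.mem_subgroupOf.mp b.2)))⟩⟩
    exact ⟨⟨1, Subgroup.upperCentralSeries_one_eq_top_iff.mpr inferInstance⟩⟩
  have h1 : T.subgroupOf E ≤ Cfsg.fittingSubgroup ↥E := le_sSup ⟨hn, hnil⟩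
  have h2 : (T.subgroupOf E).map E.subtype ≤ fittingOf E := Subgroup.map_mono h1
  rwa [Subgroup.map_subgroupOf_eq_of_le hTE] at h2

end Cfsg.Agent.Lib.Helper96.BG
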