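import Mathlib
import Cfsg.Statements.S1350
import Cfsg.Statements.S1353
import Cfsg.Statements.S1355
import Cfsg.Statements.S1364
import Cfsg.Statements.S1367
import Cfsg.Statements.S1368
import Cfsg.Statements.S1369
import Cfsg.Statements.S1378
import Cfsg.Statements.S1405
import Cfsg.Statements.S1408
import Cfsg.Statements.S1414
import Cfsg.Statements.S1417
import Cfsg.Statements.S1418
import Cfsg.Statements.S1420
import Cfsg.Statements.S1425
import Cfsg.Statements.S1429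
import Cfsg.Statements.S1430
import Cfsg.Statements.S1431
import Cfsg.Statements.S1435
import Cfsg.Statements.S1436
import Cfsg.Agent.S1446
import Cfsg.Agent.Lib.Helper96.BG.S1435Tools
import Cfsg.Agent.Lib.Helper35.BG.S1363Core
import Cfsg.Agent.Lib.Helper27.BG.S1433Core
import Cfsg.Agent.Lib.Helper76.BG.S1420Core
import Cfsg.Agent.Lib.Helper57.BG.S1361Core
import Cfsg.Agent.Lib.Helper74.BG.S1425Core

/-!
Statement S1435 (Bender–Glauberman Lemma 16.1) with the statements S1350, S1353, S1355, S1364,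
S1367, S1368, S1369, S1378, S1405, S1408, S1414, S1417, S1418, S1420, S1425, S1429, S1430, S1431,
S1436 as hypotheses (helper96).
-/

set_option autoImplicit false

namespace Cfsg.Agent.Lib.Helper96.BG

open Cfsg Subgroup Cfsg.Agent.Lib.Helper46

/-- The hypotheses of S1435 together with the statements it is derived from. -/
structure Ctx {G : Type*} [Group G] [Finite G] (hG : IsMinSimpleOddOrder G)
    (M K U Mstar : Subgroup G) (r : ℕ) [Fact r.Prime] (R : Sylow r U) (H : Subgroup G) :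
    Prop where
  h1350 : type_of% (@Cfsg.CfsgFrozen.S1350 G _ _ hG)
  h1353 : type_of% (@Cfsg.CfsgFrozen.S1353 G _ _ hG)
  h1355 : type_of% (@Cfsg.CfsgFrozen.S1355 G _ _ hG)
  h1364 : type_of% (@Cfsg.CfsgFrozen.S1364 G _ _ hG)
  h1367 : type_of% (@Cfsg.CfsgFrozen.S1367 G _ _ hG)
  h1368 : type_of% (@Cfsg.CfsgFrozen.S1368 G _ _ hG)
  h1369 : type_of% (@Cfsg.CfsgFrozen.S1369 G _ _ hG)
  h1378 : type_of% (@Cfsg.CfsgFrozen.S1378 G _ _ hG)
  h1405 : type_of% (@Cfsg.CfsgFrozen.S1405 G _ _ hG)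
  h1408 : type_of% (@Cfsg.CfsgFrozen.S1408 G _ _ hG)
  h1414 : type_of% (@Cfsg.CfsgFrozen.S1414 G _ _ hG)
  h1417 : type_of% (@Cfsg.CfsgFrozen.S1417 G _ _ hG)
  h1418 : type_of% (@Cfsg.CfsgFrozen.S1418 G _ _ hG)
  h1420 : type_of% (@Cfsg.CfsgFrozen.S1420 G _ _ hG)
  h1425 : type_of% (@Cfsg.CfsgFrozen.S1425 G _ _ hG)
  h1429 : type_of% (@Cfsg.CfsgFrozen.S1429 G _ _ hG)
  h1430 : type_of% (@Cfsg.CfsgFrozen.S1430 G _ _ hG)
  h1431 : type_of% (@Cfsg.CfsgFrozen.S1431 G _ _ hG)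
  h1436 : type_of% (@Cfsg.CfsgFrozen.S1436 G _ _ hG)
  hM : IsCoatom M
  hKU : IsSigmaDecomposition M K U
  hK1 : K ≠ ⊥
  hU1 : U ≠ ⊥
  hMstar : IsCoatom Mstar
  hKst : K = sigmaCore Mstar ⊓
    centralizer ((sigmaCore M ⊓ centralizer (K : Set G) : Subgroup G) : Set G)
  hKstH : IsPiHallOf (kappa Mstar) (sigmaCore M ⊓ centralizer (K : Set G)) Mstar
  hr : r ∣ Nat.card U
  hH : IsCoatom H
  hNR : normalizer (((R : Subgroup U).map U.subtype : Subgroup G) : Set G) ≤ H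

namespace Ctx

variable {G : Type*} [Group G] [Finite G] {hG : IsMinSimpleOddOrder G}
  {M K U Mstar : Subgroup G} {r : ℕ} [Fact r.Prime] {R : Sylow r U} {H : Subgroup G}
  (c : Ctx hG M K U Mstar r R H)

include c

theorem hσ (L : Subgroup G) (hL : IsCoatom L) : IsPiHallOf (sigma L) (sigmaCore L) L :=
  (c.h1350 L hL).1

theorem K_le_M : K ≤ M := c.hKU.hall.1

theorem U_le_M : U ≤ M := c.hKU.compl.1

theorem K_le_sigmaCore_Mstar : K ≤ sigmaCore Mstar := c.hKst.le.trans inf_le_left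

theorem K_le_Mstar : K ≤ Mstar :=
  c.K_le_sigmaCore_Mstar.trans (Cfsg.Agent.Lib.Helper67.BG.sigmaCore_le Mstar)

theorem Ks_ne_bot : sigmaCore M ⊓ centralizer (K : Set G) ≠ ⊥ :=
  (c.h1364 M c.hM K U c.hKU c.hK1).2.1

theorem U_comm : ∀ a ∈ U, ∀ b ∈ U, a * b = b * a :=
  Cfsg.Agent.Lib.Helper35.BG.isMulCommutative_subgroup_iff.mp
    (Cfsg.Agent.Lib.Helper35.BG.isMulCommutative_U_of_ne_bot hG c.h1350 c.h1430 M c.hM K U c.hKU
      c.hK1)

theorem U_hall : IsPiHallOf {q | q.Prime ∧ q ∉ kappa M ∧ q ∉ sigma M} U M :=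
  Cfsg.Agent.Lib.Helper35.BG.isPiHallOf_of_sigmaDecomposition (c.hσ M c.hM) c.hKU

theorem U_inf : U ⊓ (K ⊔ sigmaCore M) = ⊥ := c.hKU.compl.2.2.1

theorem prime_K_sigma_Mstar {p : ℕ} (hp : p.Prime) (h : p ∣ Nat.card K) : p ∈ sigma Mstar :=
  Cfsg.Agent.Lib.Helper67.BG.sigmaCore_isPi Mstar p hp
    (h.trans (Subgroup.card_dvd_of_le c.K_le_sigmaCore_Mstar))

theorem prime_K_kappa {p : ℕ} (hp : p.Prime) (h : p ∣ Nat.card K) : p ∈ kappa M :=
  c.hKU.hall.2.1 p hp h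

/-- A conjugate of `M*` meeting `K` nontrivially is `M*`. -/
theorem mem_Mstar_of_conj {K0 : Subgroup G} (hK0 : K0 ≤ K) (hK01 : K0 ≠ ⊥) (g : G)
    (h : K0 ≤ Mstar.map (MulAut.conj g).toMonoidHom) : g ∈ Mstar := by
  by_contra hg
  have h1 := (c.h1431 Mstar c.hMstar (sigmaCore M ⊓ centralizer (K : Set G)) c.hKstH
    c.Ks_ne_bot).1 g hg
  rw [← c.hKst] at h1
  apply hK01
  rw [eq_bot_iff, ← h1]
  exact le_inf hK0 h

theorem r_not_kappa_sigma : r ∉ kappa M ∧ r ∉ sigma M :=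
  (c.U_hall.2.1 r Fact.out c.hr).2

theorem R_sylow_M : IsSylowIn r ((R : Subgroup U).map U.subtype) M :=
  Cfsg.Agent.Lib.Helper74.BG.isSylowIn_of_isSylowIn_of_not_dvd (isSylowIn_of_sylow R) c.U_le_M
    (c.U_hall.2.2 r Fact.out ⟨Fact.out, c.r_not_kappa_sigma.1, c.r_not_kappa_sigma.2⟩)

theorem r_dvd_M : r ∣ Nat.card M := c.hr.trans (Subgroup.card_dvd_of_le c.U_le_M)

theorem not_P1_M : ¬ (∀ q : ℕ, q.Prime → q ∣ Nat.card M → q ∉ sigma M → q ∈ kappa M) :=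
  fun h => c.r_not_kappa_sigma.1 (h r Fact.out c.r_dvd_M c.r_not_kappa_sigma.2)

theorem nilp_M : Group.IsNilpotent (sigmaCore M) := by
  obtain ⟨S⟩ : Nonempty (Sylow r M) := inferInstance
  exact (c.h1429 M c.hM c.not_P1_M r c.r_dvd_M
    (fun h => h.elim c.r_not_kappa_sigma.2 c.r_not_kappa_sigma.1) S).2.2

/-- `C_{M_σ}(U) = 1`. -/
theorem cent_U : sigmaCore M ⊓ centralizer (U : Set G) = ⊥ := by
  obtain ⟨S, hS⟩ := IsSylowIn.exists_sylow c.R_sylow_M
  have h1 := (c.h1429 M c.hM c.not_P1_M r c.r_dvd_M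
    (fun h => h.elim c.r_not_kappa_sigma.2 c.r_not_kappa_sigma.1) S).2.1
  rw [eq_bot_iff, ← h1]
  refine le_inf inf_le_left (inf_le_right.trans ?_)
  apply Subgroup.centralizer_le
  have h2 : Subgroup.closure {x : G | x ∈ (S : Subgroup M).map M.subtype ∧ x ^ r = 1} ≤ U := by
    rw [Subgroup.closure_le]
    intro x hx
    rw [hS] at hx
    exact Subgroup.map_subtype_le _ hx.1
  exact h2

theorem sigmaCore_M_ne_bot : sigmaCore M ≠ ⊥ := by
  obtain ⟨h1, h2, -⟩ := c.h1355 M c.hM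
  intro h
  apply h1
  rw [eq_bot_iff, ← h]
  exact h2

theorem coprime_UK_sigmaCore : (Nat.card ↥(U ⊔ K)).Coprime (Nat.card (sigmaCore M)) := by
  refine Nat.coprime_of_dvd fun p hp h1 h2 => ?_
  have hσ : p ∈ sigma M := Cfsg.Agent.Lib.Helper67.BG.sigmaCore_isPi M p hp h2
  have h3 : Nat.card ↥(K ⊔ U) ∣ Nat.card K * Nat.card U :=
    Cfsg.Agent.Lib.Helper27.BG.card_sup_dvd_mul c.hKU.normal
  rw [sup_comm] at h1
  rcases (hp.dvd_mul).mp (h1.trans h3) with h4 | h4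
  · exact (c.prime_K_kappa hp h4).2.2.1 hσ
  · exact (c.U_hall.2.1 p hp h4).2.2 hσ

/-- `K` has prime order. -/
theorem K_prime : (Nat.card K).Prime := by
  have hUK : U ⊓ K = ⊥ := by
    rw [eq_bot_iff, ← c.U_inf]
    exact inf_le_inf_left U le_sup_left
  have hne : U ⊔ K ≠ ⊤ := by
    intro h
    have : (⊤ : Subgroup G) ≤ M := h ▸ sup_le c.U_le_M c.K_le_M
    exact c.hM.1 (top_le_iff.mp this)
  have hN := Cfsg.Agent.Lib.Helper67.BG.sigmaCore_normalizer M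
  exact (Cfsg.Agent.S1446.result U K (sigmaCore M) c.hU1 c.hK1 hUK c.hKU.normal
    (fun k hk hk1 => c.h1353 M c.hM K U c.hKU k hk hk1)
    (Cfsg.Agent.Lib.Helper35.BG.isSolvable_of_ne_top hG hne)
    (Cfsg.Agent.Lib.Helper35.BG.odd_card_subgroup hG _)
    c.sigmaCore_M_ne_bot c.nilp_M (c.U_le_M.trans hN) (c.K_le_M.trans hN)
    c.coprime_UK_sigmaCore c.cent_U
    (fun x hx hx1 => (c.h1430 M c.hM K c.hKU.hall c.hK1).1 x hx hx1)).1

theorem sigmaCore_ne_bot (L : Subgroup G) (hL : IsCoatom L) : sigmaCore L ≠ ⊥ := by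
  obtain ⟨h1, h2, -⟩ := c.h1355 L hL
  intro h
  apply h1
  rw [eq_bot_iff, ← h]
  exact h2

/-- **Lemma A.** A maximal subgroup `L ≥ K` in which `K` centralizes a non-identity element of
`L_σ` is `M*`, or has `#K ∈ κ(L)`. -/
theorem lemmaA (L : Subgroup G) (hL : IsCoatom L) (hKL : K ≤ L)
    (hfix : sigmaCore L ⊓ centralizer (K : Set G) ≠ ⊥) :
    L = Mstar ∨ Nat.card K ∈ kappa L := by
  have hp := c.K_prime
  obtain ⟨z, hzK, hzo, hKz⟩ :=
    Cfsg.Agent.Lib.Helper27.BG.exists_generator_of_card_prime hp (rfl : Nat.card K = Nat.card K)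
  have hz1 : z ≠ 1 := by
    rintro rfl
    rw [orderOf_one] at hzo
    exact hp.one_lt.ne hzo
  obtain ⟨y, hy, hy1⟩ : ∃ y ∈ sigmaCore L ⊓ centralizer (K : Set G), y ≠ 1 := by
    by_contra hcon
    push Not at hcon
    exact hfix ((Subgroup.eq_bot_iff_forall _).mpr hcon)
  have hzy : z * y = y * z := (mem_centralizer_iff.mp hy.2) z hzK
  by_cases hpσ : Nat.card K ∈ sigma L
  · left
    obtain ⟨g, hg⟩ := c.h1378.2 Mstar L c.hMstar hL
      ⟨Nat.card K, c.prime_K_sigma_Mstar hp dvd_rfl, hpσ⟩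
    have hgM : g ∈ Mstar := c.mem_Mstar_of_conj le_rfl c.hK1 g (hg ▸ hKL)
    rw [hg, Cfsg.Agent.Lib.Helper85.BG.map_conj_eq_self_of_mem hgM]
  · rcases mem_kappa_or_tau2 hG c.h1405 hL hp hpσ (hKL hzK) hzo hy.1 hy1 hzy with h | h
    · exact Or.inr h
    · left
      obtain ⟨E, hE⟩ := Cfsg.Agent.Lib.Helper67.BG.exists_compl_sigmaCore L (c.hσ L hL)
      have h4 := (c.h1420 L hL E hE).2.2.2 z (hKL hzK) hz1
        (fun s hs hd => by
          have : s = Nat.card K := (Nat.prime_dvd_prime_iff_eq hs hp).mp (hzo ▸ hd)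
          exact this ▸ h)
        ⟨hKL hzK, y, hy.1, hy1, hzy⟩
      have h5 := (c.h1367 M c.hM K U c.hKU c.hK1 Mstar c.hMstar c.hKst c.hKstH).2 K le_rfl hp
      have h6 : centralizer ({z} : Set G) ≤ Mstar := by
        intro x hx
        apply h5.1
        rw [hKz]
        exact Cfsg.Agent.Lib.Helper27.BG.mem_centralizer_zpowers
          ((mem_centralizer_iff.mp hx) z rfl).symm
      exact (h4.2 Mstar c.hMstar h6).symm

theorem U_le_H : U ≤ H := by
  refine le_trans ?_ c.hNR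
  apply Cfsg.Agent.Lib.Helper35.BG.le_normalizer_of_forall_conj_mem
  rintro x hx a ha
  have haU : a ∈ U := Subgroup.map_subtype_le _ ha
  have h1 : x * a * x⁻¹ = a := by rw [c.U_comm x hx a haU, mul_inv_cancel_right]
  rw [h1]
  exact ha

theorem K_le_H : K ≤ H :=
  (le_normalizer_sylow_of_comm c.U_comm c.hKU.normal R).trans c.hNR

theorem H_not_conj_M (g : G) : H ≠ M.map (MulAut.conj g).toMonoidHom := by
  intro h
  have h1 : IsSylowIn r ((R : Subgroup U).map U.subtype) H := by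
    refine ⟨(Subgroup.map_subtype_le _).trans c.U_le_H, ?_⟩
    rw [c.R_sylow_M.2, h, Cfsg.Agent.Lib.Helper35.BG.card_map_conj]
  have h2 : r ∈ sigma H := Cfsg.Agent.Lib.Helper27.BG.mem_sigma_of_isSylowIn h1
    (c.hr.trans (Subgroup.card_dvd_of_le c.U_le_H)) c.hNR
  rw [h, Cfsg.Agent.Lib.Helper27.BG.sigma_map_conj] at h2
  exact c.r_not_kappa_sigma.2 h2

theorem H_ne_Mstar : H ≠ Mstar := by
  intro h
  apply c.hU1
  have h1 : U ≤ M ⊓ Mstar := le_inf c.U_le_M (by rw [← h]; exact c.U_le_H)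
  rw [(c.h1368 M c.hM K U c.hKU c.hK1 Mstar c.hMstar c.hKst c.hKstH).1] at h1
  rw [eq_bot_iff, ← c.U_inf]
  exact le_inf le_rfl (h1.trans (sup_le_sup_left inf_le_left K))

theorem H_not_conj_Mstar (g : G) : H ≠ Mstar.map (MulAut.conj g).toMonoidHom := by
  intro h
  have hg : g ∈ Mstar := c.mem_Mstar_of_conj le_rfl c.hK1 g (by rw [← h]; exact c.K_le_H)
  rw [Cfsg.Agent.Lib.Helper85.BG.map_conj_eq_self_of_mem hg] at h
  exact c.H_ne_Mstar h

/-- Conclusion 1: `κ(H) = ∅`. -/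
theorem kappa_H : kappa H = ∅ := by
  by_contra hne
  obtain ⟨g, hg | hg⟩ := (c.h1369 M c.hM K U c.hKU c.hK1 Mstar c.hMstar c.hKst c.hKstH).2 H c.hH
    (Set.nonempty_iff_ne_empty.mpr hne)
  · exact c.H_not_conj_M g hg
  · exact c.H_not_conj_Mstar g hg

theorem sigma_H_not_M {q : ℕ} (hq : q ∈ sigma H) : q ∉ sigma M := fun h => by
  obtain ⟨g, hg⟩ := c.h1378.2 M H c.hM c.hH ⟨q, h, hq⟩
  exact c.H_not_conj_M g hg

theorem sigma_H_not_Mstar {q : ℕ} (hq : q ∈ sigma H) : q ∉ sigma Mstar := fun h => by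
  obtain ⟨g, hg⟩ := c.h1378.2 Mstar H c.hMstar c.hH ⟨q, h, hq⟩
  exact c.H_not_conj_Mstar g hg

theorem prime_K_not_sigma_H : Nat.card K ∉ sigma H := fun h =>
  c.sigma_H_not_Mstar h (c.prime_K_sigma_Mstar c.K_prime dvd_rfl)

theorem fix_K_H : sigmaCore H ⊓ centralizer (K : Set G) = ⊥ := by
  by_contra h
  rcases c.lemmaA H c.hH c.K_le_H h with h1 | h1
  · exact c.H_ne_Mstar h1
  · rw [c.kappa_H] at h1
    exact h1

theorem fix_k_H (k : G) (hk : k ∈ K) (hk1 : k ≠ 1) :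
    sigmaCore H ⊓ centralizer ({k} : Set G) = ⊥ := by
  rw [eq_bot_iff, ← c.fix_K_H]
  refine le_inf inf_le_left (inf_le_right.trans ?_)
  intro x hx
  rw [← zpowers_eq_of_prime_card c.K_prime hk hk1]
  exact Cfsg.Agent.Lib.Helper27.BG.mem_centralizer_zpowers
    ((mem_centralizer_iff.mp hx) k rfl).symm

theorem nilp_H : Group.IsNilpotent (sigmaCore H) := by
  have hp := c.K_prime
  have : Fact (Nat.card K).Prime := ⟨hp⟩
  have hpH : Nat.card K ∣ Nat.card H := Subgroup.card_dvd_of_le c.K_le_H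
  have hκ : Nat.card K ∉ kappa H := by
    rw [c.kappa_H]
    exact fun h => h
  obtain ⟨S⟩ : Nonempty (Sylow (Nat.card K) H) := inferInstance
  exact (c.h1429 H c.hH (fun h => hκ (h _ hp hpH c.prime_K_not_sigma_H)) (Nat.card K) hpH
    (fun h => h.elim c.prime_K_not_sigma_H hκ) S).2.2

/-- **Lemma B.** A nontrivial `K`-invariant subgroup `Q ≤ H` of prime exponent `q ∉ σ(H)` on
which `K` acts freely centralizes `H_σ`, `q ∈ τ₂(H)`, and there is a maximal subgroup `L ≥ K`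
with `Q ≤ L_σ` which is `M*` or has `#K ∈ κ(L)`; moreover `H` is the only maximal subgroup
containing `C_G(v)` for `v ∈ Q`, `v ≠ 1`. -/
theorem lemmaB (q : ℕ) (hq : q.Prime) (hqσ : q ∉ sigma H) (Q : Subgroup G) (hQH : Q ≤ H)
    (hQ1 : Q ≠ ⊥) (hQq : ∀ w ∈ Q, w ^ q = 1) (hKQ : K ≤ normalizer (Q : Set G))
    (hfree : ∀ k ∈ K, k ≠ 1 → ∀ d ∈ Q, k * d = d * k → d = 1) :
    q ∈ tau2 H ∧ ∃ L : Subgroup G, IsCoatom L ∧ K ≤ L ∧ Q ≤ sigmaCore L ∧ q ∈ sigma L ∧
      (L = Mstar ∨ Nat.card K ∈ kappa L) ∧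
      ∀ v ∈ Q, v ≠ 1 → centralizer ({v} : Set G) ≤ H ∧ ¬ centralizer ({v} : Set G) ≤ L := by
  have : Fact q.Prime := ⟨hq⟩
  have hp := c.K_prime
  have hNH := Cfsg.Agent.Lib.Helper67.BG.sigmaCore_normalizer H
  have hQp : IsPGroup q Q := fun ⟨w, hw⟩ => ⟨1, Subtype.ext (by simpa using hQq w hw)⟩
  have hcopD : ∀ D : Subgroup G, IsPGroup q D → K ≤ normalizer (D : Set G) →
      ∀ s : ℕ, s.Prime → s ∣ Nat.card ↥(D ⊔ K) → s ∉ sigma H := by
    intro D hD hKD s hs h2 hσ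
    have h3 : Nat.card ↥(K ⊔ D) ∣ Nat.card K * Nat.card D :=
      Cfsg.Agent.Lib.Helper27.BG.card_sup_dvd_mul hKD
    rw [sup_comm] at h2
    rcases (hs.dvd_mul).mp (h2.trans h3) with h4 | h4
    · have h5 : s = Nat.card K := (Nat.prime_dvd_prime_iff_eq hs hp).mp h4
      exact c.prime_K_not_sigma_H (h5 ▸ hσ)
    · have h5 : s = q := Cfsg.Agent.Lib.Helper67.BG.prime_eq_of_dvd_card_isPGroup hD hs h4
      exact hqσ (h5 ▸ hσ)
  have hcop : ∀ D : Subgroup G, IsPGroup q D → K ≤ normalizer (D : Set G) →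
      (Nat.card (sigmaCore H)).Coprime (Nat.card ↥(D ⊔ K)) := by
    intro D hD hKD
    refine Nat.coprime_of_dvd fun s hs h1 h2 => ?_
    exact hcopD D hD hKD s hs h2 (Cfsg.Agent.Lib.Helper67.BG.sigmaCore_isPi H s hs h1)
  have hnil := c.nilp_H
  have hsolv : Group.IsSolvable (sigmaCore H) := inferInstance
  have hQc : Q ≤ centralizer (sigmaCore H : Set G) :=
    frob_centralizes (sigmaCore H) Q K hKQ c.hK1 hfree hsolv (hcop Q hQp hKQ) c.fix_k_H
      (hQH.trans hNH) (c.K_le_H.trans hNH)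
  have hcomm : ∀ w ∈ Q, ∀ y ∈ sigmaCore H, w * y = y * w :=
    fun w hw y hy => ((mem_centralizer_iff.mp (hQc hw)) y hy).symm
  obtain ⟨z, hzQ, hz1⟩ : ∃ z ∈ Q, z ≠ 1 := by
    by_contra hcon
    push Not at hcon
    exact hQ1 ((Subgroup.eq_bot_iff_forall _).mpr hcon)
  have hzo : orderOf z = q := orderOf_eq_prime (hQq z hzQ) hz1
  obtain ⟨y, hy, hy1⟩ : ∃ y ∈ sigmaCore H, y ≠ 1 := by
    by_contra hcon
    push Not at hcon
    exact c.sigmaCore_ne_bot H c.hH ((Subgroup.eq_bot_iff_forall _).mpr hcon)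
  have hτ2 : q ∈ tau2 H := by
    rcases mem_kappa_or_tau2 hG c.h1405 c.hH hq hqσ (hQH hzQ) hzo hy hy1 (hcomm z hzQ y hy)
      with h | h
    · rw [c.kappa_H] at h
      exact h.elim
    · exact h
  refine ⟨hτ2, ?_⟩
  have hQKH : Q ⊔ K ≤ H := sup_le hQH c.K_le_H
  obtain ⟨E, hE, hQKE⟩ := Cfsg.Agent.Lib.Helper76.BG.exists_compl_ge hG H c.hH (c.hσ H c.hH)
    (Q ⊔ K) hQKH (hcopD Q hQp hKQ)
  obtain ⟨B, hBE, hBe, hBc⟩ := Cfsg.Agent.Lib.Helper67.BG.exists_ea_sq_le_compl hE hτ2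
  have hEH : E ≤ H := hE.1
  obtain ⟨⟨hEB, hXB⟩, -, -⟩ := c.h1418 H c.hH E hE q hτ2 B ⟨hBE, hBe, hBc⟩
  have hQB : Q ≤ B := by
    intro w hw
    by_cases hw1 : w = 1
    · rw [hw1]
      exact B.one_mem
    · have ho : orderOf w = q := orderOf_eq_prime (hQq w hw) hw1
      have h1 : zpowers w ≤ B := hXB (zpowers w)
        ((zpowers_le.mpr hw).trans (le_sup_left.trans hQKE)) (by rw [Nat.card_zpowers, ho])
      exact h1 (mem_zpowers w)
  have hB1 : B ≠ ⊥ := fun h => hQ1 (eq_bot_iff.mpr (h ▸ hQB))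
  have hBp : IsPGroup q B := IsPGroup.of_card hBc
  have hqG : q ∣ Nat.card G := hzo ▸ orderOf_dvd_natCard z
  obtain ⟨L0, hL0, hqL0⟩ := c.h1378.1 q hq hqG
  obtain ⟨g, hg⟩ := c.h1425 L0 hL0 B hB1 (fun s hs hd => by
    have h5 : s = q := Cfsg.Agent.Lib.Helper67.BG.prime_eq_of_dvd_card_isPGroup hBp hs hd
    exact h5 ▸ hqL0)
  have hL : IsCoatom (L0.map (MulAut.conj g⁻¹).toMonoidHom) :=
    Cfsg.Agent.Lib.Helper85.BG.isCoatom_map_conj hL0 g⁻¹
  have hqL : q ∈ sigma (L0.map (MulAut.conj g⁻¹).toMonoidHom) := by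
    rw [Cfsg.Agent.Lib.Helper27.BG.sigma_map_conj]
    exact hqL0
  have hBL : B ≤ sigmaCore (L0.map (MulAut.conj g⁻¹).toMonoidHom) := by
    rw [Cfsg.Agent.Lib.Helper85.BG.sigmaCore_map_conj,
      ← Cfsg.Agent.Lib.Helper85.BG.map_conj_inv_map_conj B g]
    exact Subgroup.map_mono hg
  generalize L0.map (MulAut.conj g⁻¹).toMonoidHom = L at hL hqL hBL
  have hBLL : B ≤ L := hBL.trans (Cfsg.Agent.Lib.Helper67.BG.sigmaCore_le L)
  obtain ⟨EL, hEL⟩ := Cfsg.Agent.Lib.Helper67.BG.exists_compl_sigmaCore L (c.hσ L hL)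
  have hBnc : ¬ IsCyclic B := by
    intro hcyc
    obtain ⟨b, hb⟩ := hcyc.exists_generator
    have h1 : orderOf b = Nat.card B := orderOf_eq_card_of_forall_mem_zpowers hb
    have h2 : orderOf b ∣ q := orderOf_dvd_of_pow_eq_one (Subtype.ext (by simpa using hBe.2 b b.2))
    rw [hBc] at h1
    have h3 := Nat.le_of_dvd hq.pos h2
    have h4 : q < q ^ 2 := by nlinarith [hq.two_le]
    omega
  have hNB : normalizer (B : Set G) ≤ L := (c.h1420 L hL EL hEL).2.2.1 q B hqL hBp hBLL hBnc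
  have hEL' : E ≤ L := hEB.trans hNB
  have hKE : K ≤ E := le_sup_right.trans hQKE
  have hKL : K ≤ L := hKE.trans hEL'
  refine ⟨L, hL, hKL, hQB.trans hBL, hqL, ?_, ?_⟩
  · by_cases hdich : ∃ k ∈ K, k ≠ 1 ∧ ∃ b ∈ B, b ≠ 1 ∧ k * b = b * k
    · obtain ⟨k, hk, hk1, b, hb, hb1, hkb⟩ := hdich
      apply c.lemmaA L hL hKL
      intro hbot
      have h1 : b ∈ sigmaCore L ⊓ centralizer (K : Set G) := by
        refine ⟨hBL hb, ?_⟩
        rw [← zpowers_eq_of_prime_card hp hk hk1]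
        exact Cfsg.Agent.Lib.Helper27.BG.mem_centralizer_zpowers hkb.symm
      rw [hbot, mem_bot] at h1
      exact hb1 h1
    · exfalso
      push Not at hdich
      have hKB : K ≤ normalizer (B : Set G) := hKE.trans hEB
      have hBc' : B ≤ centralizer (sigmaCore H : Set G) :=
        frob_centralizes (sigmaCore H) B K hKB c.hK1
          (fun k hk hk1 d hd hkd => by
            by_contra hd1
            exact hdich k hk hk1 d hd hd1 hkd)
          hsolv (hcop B hBp hKB) c.fix_k_H ((hBE.trans hEH).trans hNH) (c.K_le_H.trans hNH)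
      have h4 := (c.h1417 H c.hH q hτ2 B ⟨hBE.trans hEH, hBe, hBc⟩).2.2.2.1
      have h5 : y ∈ sigmaCore H ⊓ centralizer (B : Set G) :=
        Subgroup.mem_inf.mpr ⟨hy, mem_centralizer_iff.mpr
          (fun b hb => ((mem_centralizer_iff.mp (hBc' hb)) y hy).symm)⟩
      rw [h4, mem_bot] at h5
      exact hy1 h5
  · intro v hv hv1
    have hvo : orderOf v = q := orderOf_eq_prime (hQq v hv) hv1
    have h5 := (c.h1420 H c.hH E hE).2.2.2 v (hQH hv) hv1
      (fun s hs hd => by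
        have h6 : s = q := (Nat.prime_dvd_prime_iff_eq hs hq).mp (hvo ▸ hd)
        exact h6 ▸ hτ2)
      ⟨hQH hv, y, hy, hy1, hcomm v hv y hy⟩
    refine ⟨h5.1, fun hvL => ?_⟩
    have h6 : L = H := h5.2 L hL hvL
    exact hqσ (h6 ▸ hqL)

/-- Every prime divisor of `#U` lies in `σ(H)`. -/
theorem prime_U_sigma_H (s : ℕ) (hs : s.Prime) (hsU : s ∣ Nat.card U) : s ∈ sigma H := by
  by_contra hsσ
  have : Fact s.Prime := ⟨hs⟩
  let Q : Subgroup G :=
    { carrier := {x | x ∈ U ∧ x ^ s = 1}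
      mul_mem' := by
        rintro x y ⟨hx, hx1⟩ ⟨hy, hy1⟩
        refine ⟨U.mul_mem hx hy, ?_⟩
        have hc : Commute x y := c.U_comm x hx y hy
        rw [hc.mul_pow, hx1, hy1, one_mul]
      one_mem' := ⟨U.one_mem, one_pow _⟩
      inv_mem' := by
        rintro x ⟨hx, hx1⟩
        exact ⟨U.inv_mem hx, by rw [inv_pow, hx1, inv_one]⟩ }
  have hQU : Q ≤ U := fun x hx => hx.1
  have hQ1 : Q ≠ ⊥ := by
    obtain ⟨x, hx⟩ := exists_prime_orderOf_dvd_card' (G := U) s hsU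
    intro hbot
    have hxQ : (x : G) ∈ Q := by
      refine ⟨x.2, ?_⟩
      rw [← Subgroup.coe_pow, ← hx, pow_orderOf_eq_one]
      rfl
    rw [hbot, mem_bot] at hxQ
    have hx1 : x = 1 := Subtype.ext hxQ
    rw [hx1, orderOf_one] at hx
    exact hs.one_lt.ne hx
  have hKQ : K ≤ normalizer (Q : Set G) := by
    apply Cfsg.Agent.Lib.Helper35.BG.le_normalizer_of_forall_conj_mem
    rintro k hk x ⟨hxU, hxs⟩
    exact ⟨(mem_normalizer_iff.mp (c.hKU.normal hk) x).mp hxU,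
      by rw [conj_pow, hxs, mul_one, mul_inv_cancel]⟩
  have hfree : ∀ k ∈ K, k ≠ 1 → ∀ d ∈ Q, k * d = d * k → d = 1 := by
    intro k hk hk1 d hd hkd
    have h1 := c.h1353 M c.hM K U c.hKU k hk hk1
    have h2 : d ∈ U ⊓ centralizer ({k} : Set G) :=
      Subgroup.mem_inf.mpr ⟨hd.1, mem_centralizer_iff.mpr (fun h hh => by
        rw [Set.mem_singleton_iff.mp hh]
        exact hkd)⟩
    rw [h1, mem_bot] at h2
    exact h2
  obtain ⟨-, L, hL, hKL, hQL, hsL, hcase, -⟩ :=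
    c.lemmaB s hs hsσ Q (hQU.trans c.U_le_H) hQ1 (fun w hw => hw.2) hKQ hfree
  rcases hcase with h | h
  · apply hQ1
    have h1 : Q ≤ M ⊓ Mstar :=
      le_inf (hQU.trans c.U_le_M) (h ▸ hQL.trans (Cfsg.Agent.Lib.Helper67.BG.sigmaCore_le L))
    rw [(c.h1368 M c.hM K U c.hKU c.hK1 Mstar c.hMstar c.hKst c.hKstH).1] at h1
    rw [eq_bot_iff, ← c.U_inf]
    exact le_inf hQU (h1.trans (sup_le_sup_left inf_le_left K))
  · obtain ⟨g, hg | hg⟩ :=
      (c.h1369 M c.hM K U c.hKU c.hK1 Mstar c.hMstar c.hKst c.hKstH).2 L hL ⟨_, h⟩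
    · rw [hg, Cfsg.Agent.Lib.Helper27.BG.sigma_map_conj] at hsL
      exact (c.U_hall.2.1 s hs hsU).2.2 hsL
    · have h1 : Nat.card K ∈ sigma L := by
        rw [hg, Cfsg.Agent.Lib.Helper27.BG.sigma_map_conj]
        exact c.prime_K_sigma_Mstar c.K_prime dvd_rfl
      exact h.2.2.1 h1

/-- Conclusion 2: `U ≤ H_σ`. -/
theorem U_le_sigmaCore_H : U ≤ sigmaCore H :=
  Cfsg.Agent.Lib.Helper74.BG.le_of_isPiHallOf_of_normal (c.hσ H c.hH)
    (Cfsg.Agent.Lib.Helper67.BG.sigmaCore_normalizer H) c.U_le_H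
    (fun p hp hd => c.prime_U_sigma_H p hp hd)

theorem M_inf_sigmaCore_H : M ⊓ sigmaCore H = U := by
  apply le_antisymm
  · have hUX : U ≤ M ⊓ sigmaCore H := le_inf c.U_le_M c.U_le_sigmaCore_H
    have h1 : U.relIndex (M ⊓ sigmaCore H) * (M ⊓ sigmaCore H).relIndex M = U.relIndex M :=
      Subgroup.relIndex_mul_relIndex _ _ _ hUX inf_le_left
    have h2 : U.relIndex (M ⊓ sigmaCore H) ∣ Nat.card ↥(M ⊓ sigmaCore H) :=
      Subgroup.relIndex_dvd_card _ _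
    have h3 : U.relIndex (M ⊓ sigmaCore H) = 1 := by
      by_contra hne
      obtain ⟨s, hs, hsd⟩ := Nat.exists_prime_and_dvd hne
      have hsσ : s ∈ sigma H := Cfsg.Agent.Lib.Helper67.BG.sigmaCore_isPi H s hs
        ((hsd.trans h2).trans (Subgroup.card_dvd_of_le inf_le_right))
      have hsM : s ∉ sigma M := c.sigma_H_not_M hsσ
      have hsκ : s ∉ kappa M := by
        intro hκ
        have h4 : ¬ s ∣ K.relIndex M := c.hKU.hall.2.2 s hs hκ
        have h5 : s ∣ Nat.card K := by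
          have h6 := Cfsg.Agent.Lib.Helper35.BG.card_mul_relIndex' c.K_le_M
          have h7 : s ∣ Nat.card K * K.relIndex M := h6 ▸ hκ.2.1
          exact ((hs.dvd_mul).mp h7).resolve_right h4
        have h8 : s = Nat.card K := (Nat.prime_dvd_prime_iff_eq hs c.K_prime).mp h5
        exact c.prime_K_not_sigma_H (h8 ▸ hsσ)
      exact c.U_hall.2.2 s hs ⟨hs, hsκ, hsM⟩ (hsd.trans (Dvd.intro _ h1))
    exact Subgroup.relIndex_eq_one.mp h3
  · exact le_inf c.U_le_M c.U_le_sigmaCore_H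

/-- Conclusion 3: `M ∩ H = U K`. -/
theorem M_inf_H : M ⊓ H = U ⊔ K := by
  have hNM := Cfsg.Agent.Lib.Helper67.BG.sigmaCore_normalizer M
  have hNH := Cfsg.Agent.Lib.Helper67.BG.sigmaCore_normalizer H
  apply le_antisymm
  · intro x hx
    have hxU : ∀ u ∈ U, x * u * x⁻¹ ∈ U := by
      intro u hu
      rw [← c.M_inf_sigmaCore_H]
      exact Subgroup.mem_inf.mpr ⟨M.mul_mem (M.mul_mem hx.1 (c.U_le_M hu)) (M.inv_mem hx.1),
        (mem_normalizer_iff.mp (hNH hx.2) u).mp (c.U_le_sigmaCore_H hu)⟩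
    obtain ⟨a, ha, b, hb, rfl⟩ :=
      (Cfsg.Agent.Lib.Helper57.BG.isComplIn_sup_of_sigmaDecomposition c.hKU).2.2.2 x hx.1
    have haN : a ∈ normalizer (U : Set G) := (sup_le c.hKU.normal le_normalizer) ha
    have hbU : ∀ u ∈ U, b * u * b⁻¹ ∈ U := by
      intro u hu
      have h1 := hxU u hu
      have h2 : b * u * b⁻¹ = a⁻¹ * (a * b * u * (a * b)⁻¹) * a⁻¹⁻¹ := by group
      rw [h2]
      exact (mem_normalizer_iff.mp (Subgroup.inv_mem _ haN) _).mp h1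
    have hbc : b ∈ sigmaCore M ⊓ centralizer (U : Set G) := by
      refine Subgroup.mem_inf.mpr ⟨hb, mem_centralizer_iff.mpr (fun u hu => ?_)⟩
      have hc1 : b * u * b⁻¹ * u⁻¹ ∈ U := U.mul_mem (hbU u hu) (U.inv_mem hu)
      have hc2 : b * u * b⁻¹ * u⁻¹ ∈ sigmaCore M := by
        have h3 : u * b⁻¹ * u⁻¹ ∈ sigmaCore M :=
          (mem_normalizer_iff.mp (hNM (c.U_le_M hu)) _).mp ((sigmaCore M).inv_mem hb)
        have h4 : b * u * b⁻¹ * u⁻¹ = b * (u * b⁻¹ * u⁻¹) := by group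
        rw [h4]
        exact (sigmaCore M).mul_mem hb h3
      have hc3 : b * u * b⁻¹ * u⁻¹ ∈ U ⊓ (K ⊔ sigmaCore M) :=
        Subgroup.mem_inf.mpr ⟨hc1, le_sup_right (a := K) hc2⟩
      rw [c.U_inf, mem_bot] at hc3
      have h5 : b * u = (b * u * b⁻¹ * u⁻¹) * (u * b) := by group
      rw [h5, hc3, one_mul]
    rw [c.cent_U, mem_bot] at hbc
    rw [hbc, mul_one, sup_comm]
    exact ha
  · exact sup_le (le_inf c.U_le_M c.U_le_H) (le_inf c.K_le_M c.K_le_H)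

/-- Conclusion 4: `N_H(U) ⊄ M`. -/
theorem not_normalizer_le : ¬ H ⊓ normalizer (U : Set G) ≤ M := by
  intro hle
  by_cases hU : U = sigmaCore H
  · have h1 : H ≤ normalizer (U : Set G) := by
      rw [hU]
      exact Cfsg.Agent.Lib.Helper67.BG.sigmaCore_normalizer H
    have h2 : H ≤ M := (le_inf le_rfl h1).trans hle
    have h3 : H = M := by
      by_contra hne
      exact c.hM.1 (c.hH.2 M (lt_of_le_of_ne h2 hne))
    exact c.H_not_conj_M 1 (by rw [Cfsg.Agent.Lib.Helper35.BG.map_conj_one]; exact h3)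
  · have hlt : U < sigmaCore H := lt_of_le_of_ne c.U_le_sigmaCore_H hU
    have hnil := c.nilp_H
    have hnc := Group.normalizerCondition_of_isNilpotent (G := ↥(sigmaCore H))
    have hU'top : U.subgroupOf (sigmaCore H) < ⊤ := by
      rw [lt_top_iff_ne_top]
      intro h
      rw [Subgroup.subgroupOf_eq_top] at h
      exact hlt.not_ge h
    obtain ⟨x, hxN, hxU⟩ := SetLike.exists_of_lt (hnc (U.subgroupOf (sigmaCore H)) hU'top)
    have hxn : (x : G) ∈ normalizer (U : Set G) := by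
      rw [mem_normalizer_iff]
      intro u
      constructor
      · intro hu
        have h1 := (mem_normalizer_iff.mp hxN ⟨u, c.U_le_sigmaCore_H hu⟩).mp
          (Subgroup.mem_subgroupOf.mpr hu)
        exact Subgroup.mem_subgroupOf.mp h1
      · intro hu
        have huS : u ∈ sigmaCore H := by
          have h1 : u = (x : G)⁻¹ * ((x : G) * u * (x : G)⁻¹) * (x : G) := by group
          rw [h1]
          exact (sigmaCore H).mul_mem ((sigmaCore H).mul_mem ((sigmaCore H).inv_mem x.2)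
            (c.U_le_sigmaCore_H hu)) x.2
        have h2 := (mem_normalizer_iff.mp hxN ⟨u, huS⟩).mpr (Subgroup.mem_subgroupOf.mpr hu)
        exact Subgroup.mem_subgroupOf.mp h2
    have hxM : (x : G) ∈ M :=
      hle (Subgroup.mem_inf.mpr ⟨Cfsg.Agent.Lib.Helper67.BG.sigmaCore_le H x.2, hxn⟩)
    have h3 : (x : G) ∈ M ⊓ sigmaCore H := Subgroup.mem_inf.mpr ⟨hxM, x.2⟩
    rw [c.M_inf_sigmaCore_H] at h3
    exact hxU (Subgroup.mem_subgroupOf.mpr h3)

theorem sigmaCore_H_inf_Mstar : sigmaCore H ⊓ Mstar = ⊥ := by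
  rw [eq_bot_iff, ← c.fix_K_H]
  intro x hx
  refine Subgroup.mem_inf.mpr ⟨hx.1, mem_centralizer_iff.mpr (fun k hk => ?_)⟩
  have h1 : k * x * k⁻¹ * x⁻¹ ∈ sigmaCore H := (sigmaCore H).mul_mem
    ((mem_normalizer_iff.mp (Cfsg.Agent.Lib.Helper67.BG.sigmaCore_normalizer H (c.K_le_H hk))
      x).mp hx.1) ((sigmaCore H).inv_mem hx.1)
  have h2 : k * x * k⁻¹ * x⁻¹ ∈ sigmaCore Mstar := by
    have h3 : x * k⁻¹ * x⁻¹ ∈ sigmaCore Mstar :=
      (mem_normalizer_iff.mp (Cfsg.Agent.Lib.Helper67.BG.sigmaCore_normalizer Mstar hx.2) _).mp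
        ((sigmaCore Mstar).inv_mem (c.K_le_sigmaCore_Mstar hk))
    have h4 : k * x * k⁻¹ * x⁻¹ = k * (x * k⁻¹ * x⁻¹) := by group
    rw [h4]
    exact (sigmaCore Mstar).mul_mem (c.K_le_sigmaCore_Mstar hk) h3
  have h5 : k * x * k⁻¹ * x⁻¹ = 1 :=
    Cfsg.Agent.Lib.Helper27.BG.eq_one_of_disjoint_primes (A := sigma H) (B := sigma Mstar)
      (fun p hp hd => Cfsg.Agent.Lib.Helper27.BG.prime_mem_sigma_of_mem_sigmaCore h1 hp hd)
      (fun p hp hd => Cfsg.Agent.Lib.Helper27.BG.prime_mem_sigma_of_mem_sigmaCore h2 hp hd)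
      (Set.eq_empty_iff_forall_notMem.mpr (fun q hq => c.sigma_H_not_Mstar hq.1 hq.2))
  calc k * x = (k * x * k⁻¹ * x⁻¹) * (x * k) := by group
    _ = x * k := by rw [h5, one_mul]

/-- Conclusions 5 and 6: `K ≤ F(H ∩ M*)` and `H ∩ M*` complements `H_σ` in `H`. -/
theorem final : K ≤ fittingOf (H ⊓ Mstar) ∧ IsComplIn (H ⊓ Mstar) (sigmaCore H) H := by
  have hp := c.K_prime
  have hpF : Fact (Nat.card K).Prime := ⟨hp⟩
  obtain ⟨k, hkK, hko, hKz⟩ :=
    Cfsg.Agent.Lib.Helper27.BG.exists_generator_of_card_prime hp (rfl : Nat.card K = Nat.card K)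
  have hk1 : k ≠ 1 := by
    rintro rfl
    rw [orderOf_one] at hko
    exact hp.one_lt.ne hko
  obtain ⟨E, hE, hKE⟩ := Cfsg.Agent.Lib.Helper76.BG.exists_compl_ge hG H c.hH (c.hσ H c.hH) K
    c.K_le_H (fun s hs hd hσ => by
      have h5 : s = Nat.card K := (Nat.prime_dvd_prime_iff_eq hs hp).mp hd
      exact c.prime_K_not_sigma_H (h5 ▸ hσ))
  have hEH : E ≤ H := hE.1
  have hAE : ⁅E, E⁆ ≤ E := Subgroup.commutator_le.mpr (fun a ha b hb =>
    E.mul_mem (E.mul_mem (E.mul_mem ha hb) (E.inv_mem ha)) (E.inv_mem hb))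
  have hAcomm : ∀ a ∈ ⁅E, E⁆, ∀ b ∈ ⁅E, E⁆, a * b = b * a :=
    Cfsg.Agent.Lib.Helper35.BG.isMulCommutative_subgroup_iff.mp (c.h1420 H c.hH E hE).2.1
  have hconj : ∀ e ∈ E, ∀ a ∈ E, e * a * e⁻¹ * a⁻¹ ∈ ⁅E, E⁆ := fun e he a ha =>
    Subgroup.commutator_mem_commutator he ha
  have hEA : ∀ e ∈ E, ∀ a ∈ ⁅E, E⁆, e * a * e⁻¹ ∈ ⁅E, E⁆ := by
    intro e he a ha
    have h1 : e * a * e⁻¹ = (e * a * e⁻¹ * a⁻¹) * a := by group
    rw [h1]
    exact (⁅E, E⁆).mul_mem (hconj e he a (hAE ha)) ha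
  have hkE : k ∈ E := hKE hkK
  have hCK : centralizer (K : Set G) ≤ Mstar :=
    ((c.h1367 M c.hM K U c.hKU c.hK1 Mstar c.hMstar c.hKst c.hKstH).2 K le_rfl hp).1
  by_cases hcent : ∀ a ∈ ⁅E, E⁆, k * a = a * k
  · -- `K E'` is an abelian normal subgroup of `E`
    have hKc : K ≤ centralizer ((K ⊔ ⁅E, E⁆ : Subgroup G) : Set G) := by
      rw [Cfsg.Agent.Lib.Helper35.BG.centralizer_sup_eq]
      refine le_inf ?_ ?_
      · intro x hx
        rw [hKz] at hx ⊢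
        obtain ⟨i, rfl⟩ := mem_zpowers_iff.mp hx
        exact Cfsg.Agent.Lib.Helper27.BG.mem_centralizer_zpowers
          ((Commute.refl k).zpow_left i).eq
      · intro x hx
        rw [hKz] at hx
        obtain ⟨i, rfl⟩ := mem_zpowers_iff.mp hx
        refine mem_centralizer_iff.mpr (fun a ha => ?_)
        exact ((show Commute k a from hcent a ha).zpow_left i).eq.symm
    have hAc : ⁅E, E⁆ ≤ centralizer ((K ⊔ ⁅E, E⁆ : Subgroup G) : Set G) := by
      rw [Cfsg.Agent.Lib.Helper35.BG.centralizer_sup_eq]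
      refine le_inf ?_ ?_
      · intro a ha
        rw [hKz]
        exact Cfsg.Agent.Lib.Helper27.BG.mem_centralizer_zpowers (hcent a ha).symm
      · intro a ha
        exact mem_centralizer_iff.mpr (fun b hb => hAcomm b hb a ha)
    have hTc : K ⊔ ⁅E, E⁆ ≤ centralizer ((K ⊔ ⁅E, E⁆ : Subgroup G) : Set G) := sup_le hKc hAc
    have hTcomm : ∀ a ∈ K ⊔ ⁅E, E⁆, ∀ b ∈ K ⊔ ⁅E, E⁆, a * b = b * a :=
      fun a ha b hb => (mem_centralizer_iff.mp (hTc hb)) a ha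
    have hTE : K ⊔ ⁅E, E⁆ ≤ E := sup_le hKE hAE
    -- conjugates of `K` stay in `K E'`
    have hKconj : ∀ e ∈ E, ∀ x ∈ K, e * x * e⁻¹ ∈ K ⊔ ⁅E, E⁆ := by
      intro e he x hx
      have h1 : e * x * e⁻¹ = (e * x * e⁻¹ * x⁻¹) * x := by group
      rw [h1]
      exact (K ⊔ ⁅E, E⁆).mul_mem (le_sup_right (a := K) (hconj e he x (hKE hx)))
        (le_sup_left (b := ⁅E, E⁆) hx)
    have hET : E ≤ normalizer ((K ⊔ ⁅E, E⁆ : Subgroup G) : Set G) := by
      apply Cfsg.Agent.Lib.Helper35.BG.le_normalizer_of_forall_conj_mem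
      intro e he t ht
      have h1 : (K ⊔ ⁅E, E⁆).map (MulAut.conj e).toMonoidHom ≤ K ⊔ ⁅E, E⁆ := by
        rw [Subgroup.map_sup]
        refine sup_le ?_ ?_
        · rintro _ ⟨x, hx, rfl⟩
          exact hKconj e he x hx
        · rintro _ ⟨a, ha, rfl⟩
          exact le_sup_right (a := K) (hEA e he a ha)
      exact h1 ⟨t, ht, rfl⟩
    -- `E ≤ M*`
    have hTM : K ⊔ ⁅E, E⁆ ≤ Mstar := by
      refine le_trans ?_ hCK
      intro t ht
      exact mem_centralizer_iff.mpr (fun x hx => hTcomm x (le_sup_left (b := ⁅E, E⁆) hx) t ht)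
    have hEM : E ≤ Mstar := by
      intro e he
      have h1 : K ≤ Mstar.map (MulAut.conj e⁻¹).toMonoidHom := by
        intro x hx
        rw [Cfsg.Agent.Lib.Helper35.BG.mem_map_conj_iff, inv_inv]
        exact hTM (hKconj e he x hx)
      have h2 := c.mem_Mstar_of_conj le_rfl c.hK1 e⁻¹ h1
      simpa using Mstar.inv_mem h2
    have hEeq : H ⊓ Mstar = E := by
      apply le_antisymm
      · intro x hx
        obtain ⟨a, ha, b, hb, rfl⟩ := hE.2.2.2 x hx.1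
        have hbM : b ∈ Mstar := by
          have h1 : b = a⁻¹ * (a * b) := by group
          rw [h1]
          exact Mstar.mul_mem (Mstar.inv_mem (hEM ha)) hx.2
        have hb1 : b ∈ sigmaCore H ⊓ Mstar := Subgroup.mem_inf.mpr ⟨hb, hbM⟩
        rw [c.sigmaCore_H_inf_Mstar, mem_bot] at hb1
        rw [hb1, mul_one]
        exact ha
      · exact le_inf hEH hEM
    rw [hEeq]
    exact ⟨(le_sup_left (b := ⁅E, E⁆)).trans (le_fittingOf_of_comm hTE hET hTcomm), hE⟩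
  · exfalso
    push Not at hcent
    have hkA : ∀ a ∈ ⁅E, E⁆, k * a * k⁻¹ ∈ ⁅E, E⁆ := fun a ha => hEA k hkE a ha
    have hEσ : ∀ s : ℕ, s.Prime → s ∣ Nat.card E → s ∉ sigma H := by
      intro s hs hd hσ
      have h1 := Cfsg.Agent.Lib.Helper35.BG.relIndex_right_of_isComplIn hE
      exact (c.hσ H c.hH).2.2 s hs hσ (h1 ▸ hd)
    have hab : ∀ P : Subgroup G, IsPGroup (Nat.card K) P → k ∈ P → P ≤ ⁅E, E⁆ ⊔ zpowers k →
        ∀ a ∈ P, ∀ b ∈ P, a * b = b * a := by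
      intro P hP _ hPle
      have hPE : P ≤ E := hPle.trans (sup_le hAE (zpowers_le.mpr hkE))
      have hPnil : Group.IsNilpotent P := hP.isNilpotent
      exact Cfsg.Agent.Lib.Helper35.BG.isMulCommutative_subgroup_iff.mp
        ((c.h1420 H c.hH E hE).1 P (hPE.trans hEH) hPnil
          (fun s hs hd => hEσ s hs (hd.trans (Subgroup.card_dvd_of_le hPE))))
    have hpk : ∀ a ∈ ⁅E, E⁆, ∀ n : ℕ, a ^ (Nat.card K ^ n) = 1 → k * a = a * k :=
      fun a ha n han => comm_pElement_of ⁅E, E⁆ hAcomm k hko hkA hab a ha n han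
    obtain ⟨q, hq, hqp, W, hWA, hW1, hWq, hkW, hWfree⟩ :=
      exists_free_section ⁅E, E⁆ hAcomm k hp hko hkA hpk hcent
    have hqF : Fact q.Prime := ⟨hq⟩
    have hWE : W ≤ E := hWA.trans hAE
    have hWp : IsPGroup q W := fun ⟨w, hw⟩ => ⟨1, Subtype.ext (by simpa using hWq w hw)⟩
    have hqσ : q ∉ sigma H := hEσ q hq
      ((Cfsg.Agent.Lib.Helper67.BG.dvd_card_of_isPGroup_ne_bot hWp hW1).trans
        (Subgroup.card_dvd_of_le hWE))
    have hKW : K ≤ normalizer (W : Set G) := by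
      rw [hKz]
      exact zpowers_le_normalizer_of_conj_mem hkW
    have hfree : ∀ k' ∈ K, k' ≠ 1 → ∀ d ∈ W, k' * d = d * k' → d = 1 := by
      intro k' hk' hk'1 d hd hkd
      have h1 : k ∈ zpowers k' := by
        rw [zpowers_eq_of_prime_card hp hk' hk'1]
        exact hkK
      obtain ⟨i, rfl⟩ := mem_zpowers_iff.mp h1
      exact hWfree d hd ((show Commute k' d from hkd).zpow_left i).eq
    obtain ⟨hτ2, L, hL, hKL, hWL, hqL, hcase, hv⟩ :=
      c.lemmaB q hq hqσ W (hWE.trans hEH) hW1 hWq hKW hfree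
    obtain ⟨v, hvW, hv1⟩ : ∃ v ∈ W, v ≠ 1 := by
      by_contra hcon
      push Not at hcon
      exact hW1 ((Subgroup.eq_bot_iff_forall _).mpr hcon)
    rcases hcase with h | h
    · -- `L = M*`: a normal `q`-complement of `M*_σ`
      subst h
      have hqβ : q ∉ beta L := fun hβ => (c.h1408 H c.hH q hqσ hτ2.2.2.1 hτ2.2.2.2).1 hβ.2
      have hqL' : q ∣ Nat.card L := hqL.2.1
      have hcompl := ((c.h1414 L hL).2.2.2.2 q hq hqL' hqβ).2.1
      have hkS : k ∈ sigmaCore L := c.K_le_sigmaCore_Mstar hkK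
      have hkoq : (orderOf k).Coprime q := by
        rw [hko]
        exact (Nat.coprime_primes hp hq).mpr (Ne.symm hqp)
      have h1 : k * v = v * k := by
        apply comm_of_normal_pComplement hcompl hkS (hWL hvW) hkoq
        exact hWq _ (W.mul_mem (hkW v hvW) (W.inv_mem hvW))
      exact hv1 (hWfree v hvW h1)
    · obtain ⟨g, hg | hg⟩ :=
        (c.h1369 M c.hM K U c.hKU c.hK1 Mstar c.hMstar c.hKst c.hKstH).2 L hL ⟨_, h⟩
      · -- `L = M^g`: S1436(a)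
        have hrσ : r ∈ sigma H := Cfsg.Agent.Lib.Helper67.BG.sigmaCore_isPi H r Fact.out
          (c.hr.trans (Subgroup.card_dvd_of_le c.U_le_sigmaCore_H))
        have hrL : r ∣ Nat.card L := by
          rw [hg, Cfsg.Agent.Lib.Helper35.BG.card_map_conj]
          exact c.r_dvd_M
        have h2 := (c.h1436 L hL v (hWL hvW) hv1 (hv v hvW hv1).2 H c.hH (hv v hvW hv1).1).1
          ⟨r, hrσ, hrL⟩
        rw [h2.1] at h
        exact h
      · have h1 : Nat.card K ∈ sigma L := by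
          rw [hg, Cfsg.Agent.Lib.Helper27.BG.sigma_map_conj]
          exact c.prime_K_sigma_Mstar hp dvd_rfl
        exact h.2.2.1 h1

end Ctx

/-- Statement S1435 (Bender–Glauberman Lemma 16.1) from the statements S1350, S1353, S1355,
S1364, S1367, S1368, S1369, S1378, S1405, S1408, S1414, S1417, S1418, S1420, S1425, S1429, S1430,
S1431, S1436. -/
theorem s1435_core {G : Type*} [Group G] [Finite G] (hG : IsMinSimpleOddOrder G)
    (h1350 : type_of% (@Cfsg.CfsgFrozen.S1350 G _ _ hG))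
    (h1353 : type_of% (@Cfsg.CfsgFrozen.S1353 G _ _ hG))
    (h1355 : type_of% (@Cfsg.CfsgFrozen.S1355 G _ _ hG))
    (h1364 : type_of% (@Cfsg.CfsgFrozen.S1364 G _ _ hG))
    (h1367 : type_of% (@Cfsg.CfsgFrozen.S1367 G _ _ hG))
    (h1368 : type_of% (@Cfsg.CfsgFrozen.S1368 G _ _ hG))
    (h1369 : type_of% (@Cfsg.CfsgFrozen.S1369 G _ _ hG))
    (h1378 : type_of% (@Cfsg.CfsgFrozen.S1378 G _ _ hG))
    (h1405 : type_of% (@Cfsg.CfsgFrozen.S1405 G _ _ hG))
    (h1408 : type_of% (@Cfsg.CfsgFrozen.S1408 G _ _ hG))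
    (h1414 : type_of% (@Cfsg.CfsgFrozen.S1414 G _ _ hG))
    (h1417 : type_of% (@Cfsg.CfsgFrozen.S1417 G _ _ hG))
    (h1418 : type_of% (@Cfsg.CfsgFrozen.S1418 G _ _ hG))
    (h1420 : type_of% (@Cfsg.CfsgFrozen.S1420 G _ _ hG))
    (h1425 : type_of% (@Cfsg.CfsgFrozen.S1425 G _ _ hG))
    (h1429 : type_of% (@Cfsg.CfsgFrozen.S1429 G _ _ hG))
    (h1430 : type_of% (@Cfsg.CfsgFrozen.S1430 G _ _ hG))
    (h1431 : type_of% (@Cfsg.CfsgFrozen.S1431 G _ _ hG))
    (h1436 : type_of% (@Cfsg.CfsgFrozen.S1436 G _ _ hG)) :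
    type_of% (@Cfsg.CfsgFrozen.S1435 G _ _ hG) := by
  intro M hM K U hKU hK1 hU1 Mstar hMstar hKst hKstH r _ hr R H hH hNR
  have c : Ctx hG M K U Mstar r R H :=
    { h1350 := h1350, h1353 := h1353, h1355 := h1355, h1364 := h1364, h1367 := h1367
      h1368 := h1368, h1369 := h1369, h1378 := h1378, h1405 := h1405, h1408 := h1408
      h1414 := h1414, h1417 := h1417, h1418 := h1418, h1420 := h1420, h1425 := h1425
      h1429 := h1429, h1430 := h1430, h1431 := h1431, h1436 := h1436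
      hM := hM, hKU := hKU, hK1 := hK1, hU1 := hU1, hMstar := hMstar, hKst := hKst
      hKstH := hKstH, hr := hr, hH := hH, hNR := hNR }
  exact ⟨c.kappa_H, c.U_le_sigmaCore_H, c.M_inf_H, c.not_normalizer_le, c.final.1, c.final.2⟩

end Cfsg.Agent.Lib.Helper96.BG
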